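import Cfsg.Agent.Lib.OrthMult.OddMain

/-!
The spin cover of an odd-dimensional orthogonal group, with an element of order two in its kernel.
-/

set_option autoImplicit false
set_option linter.unusedSectionVars false

open scoped commutatorElement

namespace Cfsg.Agent.MonomialMult.Orth

open Cfsg.Agent.OrthMult Cfsg.Agent.Forms Cfsg.Agent.Forms.QuadStd Cfsg.Agent.Forms.Reflections Cfsg.Agent.Forms.PlusStd
  Cfsg.Agent.Classical.Orth Cfsg.Agent.Classical.OrthForms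

universe u

/-- The spin cover: its kernel has an element of order two. -/
theorem exists_spin {F : Type u} [Field F] [Fintype F] {m : ℕ} (h3 : 3 ≤ m) (h2 : (2 : F) ≠ 0) (hF : Fintype.card F ≠ 2) :
    ∃ (E : Type u) (_ : Group E) (_ : Finite E) (π : E →* Cfsg.isometryGroup F ⇑(oddQ F m)),
      commutator E = ⊤ ∧ π.ker ≤ Subgroup.center E ∧ π.range = Cfsg.Omega F ⇑(oddQ F m) ∧
        ∃ z : E, π z = 1 ∧ z ≠ 1 ∧ z * z = 1 := by
  obtain ⟨E, iE, iF, π, -, hc, hr, hne⟩ := PlusMult.exists_double_cover_flips (F := F) (m := m + 1) (by omega) h2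
  obtain ⟨Dc, hDc⟩ : ∃ Dc, Dc = OrthMult.decUp (F := F) m h2 := ⟨_, rfl⟩
  obtain ⟨H, hH⟩ : ∃ H, H = (Cfsg.Omega F ⇑(oddQ F m)).map (Embed.j Dc) := ⟨_, rfl⟩
  have hHr : H ≤ π.range := by
    rw [hH, hr]
    rintro _ ⟨a, ha, rfl⟩
    exact (Embed.mem_omega_j Dc (plusQ_nondeg F _) (oddQ_nondeg h2 m) hF a).2 ha
  have hHp : ⁅H, H⁆ = H := by
    rw [hH, ← Subgroup.map_commutator, Sections.eq_of_commutator_top
      (commutator_omega_eq_top (oddQ_nondeg h2 m) (oddFrame F (by omega)) (by simp; omega))]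
  obtain ⟨D, hD⟩ : ∃ D, D = ⁅H.comap π, H.comap π⁆ := ⟨_, rfl⟩
  obtain ⟨hDm, hDp⟩ := Sections.derived_preimage hc hHr hHp hD
  have hmem : ∀ x : D, π x.1 ∈ (Cfsg.Omega F ⇑(oddQ F m)).map (Embed.j Dc) :=
    fun x => hH ▸ hDm.le ⟨x.1, x.2, rfl⟩
  obtain ⟨τ, hτ⟩ : ∃ τ : (Cfsg.Omega F ⇑(oddQ F m)).map (Embed.j Dc) ≃* Cfsg.Omega F ⇑(oddQ F m), True :=
    ⟨((Cfsg.Omega F ⇑(oddQ F m)).equivMapOfInjective (Embed.j Dc) (Embed.j_injective Dc)).symm, trivial⟩
  obtain ⟨π₁, hπ₁⟩ : ∃ π₁ : D →* Cfsg.isometryGroup F ⇑(oddQ F m), π₁ =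
      (Cfsg.Omega F ⇑(oddQ F m)).subtype.comp (τ.toMonoidHom.comp ((π.comp D.subtype).codRestrict _ hmem)) :=
    ⟨_, rfl⟩
  have hker : ∀ x : D, x ∈ π₁.ker ↔ π x.1 = 1 := fun x => by
    rw [MonoidHom.mem_ker, hπ₁]
    show ((τ ⟨π x.1, hmem x⟩) : Cfsg.isometryGroup F ⇑(oddQ F m)) = 1 ↔ _
    rw [OneMemClass.coe_eq_one, map_eq_one_iff τ τ.injective]
    exact Subtype.ext_iff
  refine ⟨D, inferInstance, inferInstance, π₁, hDp, fun x hx => ?_, ?_, ?_⟩
  · exact Subgroup.mem_center_iff.2 fun y => Subtype.ext (Subgroup.mem_center_iff.1 (hc ((hker x).1 hx)) y.1)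
  · rw [hπ₁, MonoidHom.range_comp, MonoidHom.range_eq_top.2, ← MonoidHom.range_eq_map, Subgroup.range_subtype]
    intro a
    obtain ⟨b, hb⟩ := τ.surjective a
    obtain ⟨x, hx, ex⟩ := hDm.ge (show b.1 ∈ H by rw [hH]; exact b.2)
    exact ⟨⟨x, hx⟩, by rw [MonoidHom.comp_apply, show ((π.comp D.subtype).codRestrict _ hmem) ⟨x, hx⟩ = b from
      Subtype.ext ex]; exact hb⟩
  · have hin : ∀ i j : Fin m, i ≠ j →
        ∃ x ∈ D, π x = CurtisTitsD.flip (m + 1) F i.succ * CurtisTitsD.flip (m + 1) F j.succ := fun i j hij => by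
      have hfix : ∀ k : Fin m, ∀ b : F,
          act (CurtisTitsD.flip (m + 1) F k.succ) (Dc.e.symm (b, 0)) = Dc.e.symm (b, 0) := fun k b => by
        rw [← PlusMult.reflect_hv]
        refine act_reflect_fix ?_
        rw [hDc]
        show QuadraticMap.polar (plusQ F (m + 1)) (PlusMult.hv k.succ)
          (Sum.elim (Fin.cons ((0 : F) + b) fun _ => (0 : F)) (Fin.cons ((0 : F) - b) fun _ => (0 : F))) = 0
        simp [plusQ_polar, Fin.sum_univ_succ, PlusMult.hv, Chevalley.Natural.bv, Pi.single_apply]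
      have hω := PlusMult.flip_pair_mem (F := F) (fun e => hij (Fin.succ_injective m e))
      obtain ⟨a, ha⟩ := Embed.exists_j Dc (g := CurtisTitsD.flip (m + 1) F i.succ *
        CurtisTitsD.flip (m + 1) F j.succ) fun b => by rw [act_mul, hfix, hfix]
      exact hDm.ge (hH ▸ ⟨a, (Embed.mem_omega_j Dc (plusQ_nondeg F _) (oddQ_nondeg h2 m) hF a).1
        (by rw [ha]; exact hω), ha⟩)
    obtain ⟨i, hi⟩ : ∃ i : Fin m, i.val = 0 := ⟨⟨0, by omega⟩, rfl⟩
    obtain ⟨j, hj⟩ : ∃ j : Fin m, j.val = 1 := ⟨⟨1, by omega⟩, rfl⟩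
    obtain ⟨k, hk⟩ : ∃ k : Fin m, k.val = 2 := ⟨⟨2, by omega⟩, rfl⟩
    have hij : i ≠ j := fun e => by subst e; omega
    have hjk : j ≠ k := fun e => by subst e; omega
    have hik : i ≠ k := fun e => by subst e; omega
    have hs : ∀ {a b : Fin m}, a ≠ b → a.succ ≠ b.succ := fun h e => h (Fin.succ_injective m e)
    obtain ⟨x, hx, ex⟩ := hin i j hij
    obtain ⟨y, hy, ey⟩ := hin j k hjk
    have hfl : ∀ a : Fin m, CurtisTitsD.flip (m + 1) F a.succ * CurtisTitsD.flip (m + 1) F a.succ = 1 := fun a => by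
      rw [← PlusMult.reflect_hv]
      exact reflect_sq _
    have hxk : (⟨x, hx⟩ : D) * ⟨x, hx⟩ ∈ π₁.ker := (hker _).2 (by
      show π (x * x) = 1
      rw [map_mul, ex, mul_assoc, ← mul_assoc (CurtisTitsD.flip (m + 1) F j.succ) _ _,
        (PlusMult.flip_comm (hs hij).symm : _ = _), mul_assoc (CurtisTitsD.flip (m + 1) F i.succ) _ _,
        hfl, mul_one, hfl])
    obtain ⟨z, hz⟩ : ∃ z : D, z = ⁅(⟨x, hx⟩ : D), ⟨y, hy⟩⁆ := ⟨_, rfl⟩
    have hzk : z ∈ π₁.ker := (hker _).2 (by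
      rw [hz]
      show π ⁅x, y⁆ = 1
      rw [map_commutatorElement, ex, ey, commutatorElement_eq_one_iff_commute]
      exact OrthMult.flip_commute _ _ _ (hs hij) (hs hjk) (hs hik))
    have hzc : ∀ g : D, g * z = z * g := fun g => Subtype.ext
      (Subgroup.mem_center_iff.1 (hc ((hker _).1 hzk)) g.1)
    have hxc : ∀ g : D, g * ((⟨x, hx⟩ : D) * ⟨x, hx⟩) = (⟨x, hx⟩ : D) * ⟨x, hx⟩ * g := fun g => Subtype.ext
      (Subgroup.mem_center_iff.1 (hc ((hker _).1 hxk)) g.1)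
    refine ⟨z, MonoidHom.mem_ker.1 hzk, fun e => hne _ _ _ (hs hij) (hs hjk) (hs hik) x y ex ey ?_, ?_⟩
    · rw [hz] at e
      exact congrArg Subtype.val e
    · obtain ⟨a, ha⟩ : ∃ a : D, a = ⟨x, hx⟩ := ⟨_, rfl⟩
      obtain ⟨b, hb⟩ : ∃ b : D, b = ⟨y, hy⟩ := ⟨_, rfl⟩
      rw [← ha] at hxc
      rw [← ha, ← hb, commutatorElement_def] at hz
      have hm : a * b = z * (b * a) := by rw [hz]; group
      have h2 := hxc b
      have h3 : a * a * b = z * z * (b * (a * a)) := by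
        calc a * a * b = a * (a * b) := mul_assoc _ _ _
          _ = a * (z * (b * a)) := by rw [hm]
          _ = a * z * (b * a) := (mul_assoc _ _ _).symm
          _ = z * (a * b * a) := by rw [hzc a]; simp only [mul_assoc]
          _ = _ := by rw [hm]; simp only [mul_assoc]
      rw [h2] at h3
      exact mul_eq_right.1 h3.symm

end Cfsg.Agent.MonomialMult.Orth
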