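import Cfsg.Agent.Lib.MonomialMult.Orth.Group
import Cfsg.Agent.Lib.MonomialMult.Orth.Spin
import Cfsg.Agent.Lib.MonomialMult.UnitaryCover
import Cfsg.Agent.Lib.MonomialMult.Assemble
import Cfsg.Agent.Lib.Forms.SmallPerm
import Cfsg.Agent.S0292

/-!
The multiplier of the seven-dimensional orthogonal group over the field with three elements from a triple cover on
labelled points, the spin double cover and certificates of two Sylow subgroups.
-/

set_option autoImplicit false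
set_option linter.unusedSectionVars false

namespace Cfsg.Agent.MonomialMult.Orth

open Cfsg.Agent.Lib.PcMult Cfsg.Agent.Classical.OrthForms

local instance : Fact (Nat.Prime 3) := ⟨Nat.prime_three⟩

universe u

variable {D : OPts} (hD : optsB D = true)

/-- The adjacency with labels modulo three. -/
def adj3 (T : List (List ℕ)) (w : ℕ) (x y : Fin 378) : Option (ZMod 3) := (adjT 3 T w x y).map Prod.fst

theorem isLift_fst {T : List (List ℕ)} {w : ℕ} {σ : Equiv.Perm (Fin 378)} {f : Fin 378 → ZMod 3 × ZMod 3}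
    (h : IsLift (adjT 3 T w) σ f) : IsLift (adj3 T w) σ fun x => (f x).1 := by
  intro x y l hl
  simp only [adj3, Option.map_eq_some_iff] at hl ⊢
  obtain ⟨l', h1, rfl⟩ := hl
  exact ⟨_, h x y l' h1, rfl⟩

/-- The data of the triple cover. -/
structure Data where
  T : List (List ℕ)
  w : ℕ
  par : ℕ → ℕ
  s : ℕ
  ord : ℕ → ℕ
  pos : ℕ → ℕ
  a : ℕ → ℕ
  b : ℕ → ℕ
  P : List (ℕ → ℕ)
  f : List (ℕ → ℕ)
  cw : List (List ℕ)
  cP : List (ℕ → ℕ)
  cf : List (ℕ → ℕ)

/-- The checks of the triple cover, except the tables and edges. -/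
def dataB (D : OPts) (K : Data) : Bool :=
  decide (1 < K.s) && decide (K.ord 0 = 0) && decide (K.P.length = K.s) && closB D K.s K.ord K.pos K.a K.b &&
  decide (K.ord 1 < 378) && connB 378 K.T K.w K.par &&
  commB 3 (K.cP.getD 0 id) (K.cP.getD 1 id) (K.cf.getD 0 id) (K.cf.getD 1 id) 378 1 &&
  decide (K.par 0 < 378) && !(K.P.getD 1 id (K.par 0) == K.par 0)

/-- The two reflections of a generator. -/
def genW (D : OPts) (K : Data) (k : ℕ) : List ℕ := [D.pt (K.ord k), D.pt (K.ord 0)]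

variable {K : Data} (hK : dataB D K = true)
  (htab : ∀ k < K.s, otabB D (genW D K k) (K.P.getD k id) = true)

include hD hK htab

theorem injective : Function.Injective (permO hD) := by
  simp only [dataB, Bool.and_eq_true, decide_eq_true_eq, Bool.not_eq_true', beq_eq_false_iff_ne] at hK
  obtain ⟨⟨⟨⟨⟨⟨⟨⟨hs, -⟩, -⟩, -⟩, -⟩, -⟩, -⟩, hpar⟩, hmove⟩ := hK
  exact permO_injective hD (htab 1 hs) ⟨_, hpar⟩ hmove

theorem triple_cover
    (hlift : ∀ k < K.s, ∀ x < 378, edgeB 3 378 K.T K.w (K.P.getD k id) (K.f.getD k id) x = true)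
    (hctab : ∀ k < 2, otabB D (K.cw.getD k []) (K.cP.getD k id) = true)
    (hclift : ∀ k < 2, ∀ x < 378, edgeB 3 378 K.T K.w (K.cP.getD k id) (K.cf.getD k id) x = true) :
    ∃ (E : Type) (_ : Group E) (_ : Finite E) (θ : E →* G7),
      Cfsg.IsStemExtension θ ∧ Nonempty (θ.ker ≃* Multiplicative (ZMod 3)) := by
  have hinj := injective hD hK htab
  have hK' := hK
  simp only [dataB, Bool.and_eq_true, decide_eq_true_eq, Bool.not_eq_true', beq_eq_false_iff_ne] at hK'
  obtain ⟨⟨⟨⟨⟨⟨⟨⟨hs, h0⟩, hlen⟩, hclos⟩, hord⟩, hconn⟩, hcomm⟩, hpar⟩, hmove⟩ := hK'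
  let r : Fin 378 := ⟨0, by norm_num⟩
  let par : Fin 378 → Fin 378 := fun x => if h : K.par x < 378 then ⟨K.par x, h⟩ else r
  let S : Set G7 := (fun k => wordO (genW D K k)) '' Set.Iio K.s
  have hgen : Subgroup.closure S = ⊤ := by
    refine gen_top hD hclos h0 _ (fun k hk => Subgroup.subset_closure ⟨k, hk, rfl⟩) ?_
    refine ⟨⟨K.ord 1, hord⟩, ⟨K.ord 0, by rw [h0]; norm_num⟩, ⟨K.par 0, hpar⟩, fun e => hmove ?_⟩
    rw [← otab_apply hD (htab 1 hs) ⟨K.par 0, hpar⟩]
    exact congrArg Fin.val e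
  refine exists_cover (adj3 K.T K.w) (permO hD) perfect r par (fun x => x.1) ?_ S hgen ?_ {1} ?_ ?_
  · intro x hx
    have := below_spec hconn x x.2
    have hx0 : (x : ℕ) ≠ 0 := fun e => hx (Fin.ext e)
    simp only [Bool.or_eq_true, Bool.and_eq_true, beq_iff_eq, decide_eq_true_eq, Bool.not_eq_true',
      beq_eq_false_iff_ne, hx0, false_or] at this
    have e : par x = ⟨K.par x, by omega⟩ := dif_pos _
    rw [e]
    exact ⟨this.1, by simp [adj3, adjT, this.2]⟩
  · rintro _ ⟨k, hk, rfl⟩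
    exact ⟨_, isLift_fst (isLift_of (by norm_num) (hlift k hk) (otab_apply hD (htab k hk)))⟩
  · rw [eq_top_iff]
    rintro z -
    have h := AddSubgroup.nsmul_mem _ (AddSubgroup.subset_closure (Set.mem_singleton (1 : ZMod 3))) z.val
    rwa [nsmul_one, ZMod.natCast_zmod_val] at h
  · intro z hz
    obtain rfl : z = 1 := hz
    simp only [commB, Bool.and_eq_true, decide_eq_true_eq, beq_iff_eq] at hcomm
    obtain ⟨⟨⟨hc, -⟩, -⟩, hval⟩ := hcomm
    have hP := fun l (hl : l < 2) => otab_apply hD (hctab l hl)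
    have hperm : permO hD (wordO (K.cw.getD 0 [])) * permO hD (wordO (K.cw.getD 1 [])) =
        permO hD (wordO (K.cw.getD 1 [])) * permO hD (wordO (K.cw.getD 0 [])) := by
      refine Equiv.ext fun y => Fin.ext ?_
      rw [Equiv.Perm.mul_apply, Equiv.Perm.mul_apply, hP 0 (by norm_num), hP 1 (by norm_num), hP 1 (by norm_num),
        hP 0 (by norm_num)]
      exact beq_iff_eq.1 (below_spec hc y y.2)
    refine ⟨wordO (K.cw.getD 0 []), wordO (K.cw.getD 1 []), fun x => (lab 3 (K.cf.getD 0 id x)).1,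
      fun x => (lab 3 (K.cf.getD 1 id x)).1, hperm, hinj (by rw [map_mul, map_mul]; exact hperm),
      isLift_fst (isLift_of (by norm_num) (hclift 0 (by norm_num)) (hP 0 (by norm_num))),
      isLift_fst (isLift_of (by norm_num) (hclift 1 (by norm_num)) (hP 1 (by norm_num))), ?_⟩
    simp only [hP 0 (by norm_num), hP 1 (by norm_num)]
    have := congrArg Prod.fst (comm_label (by norm_num : 0 < 3) hval)
    simpa [lab] using this

/-- A bound at one prime. -/
theorem bound_at {Cr : Cert} {ws : List (List ℕ)} {Ps : List (ℕ → ℕ)} {orbs : List (List ℕ × List (List ℕ))}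
    (hlen : ws.length = Ps.length) (hws : ∀ k < ws.length, otabB D (ws.getD k []) (Ps.getD k id) = true)
    (hreal : realT Cr Ps 378 orbs = true)
    {m' d : ℕ} (hm : 1 ≤ m') (hd : 0 < d) (hp : Cr.R.p.Prime) {res mult tor : List (List ℕ)}
    (hC : checkMany Cr (vecOps m') m' res mult tor d = true)
    (hN : (Nat.card G7).factorization Cr.R.p = Cr.R.n)
    {p : ℕ} [Fact p.Prime] (hpp : Cr.R.p = p) {k : ℕ} (hk : p ^ k = m') (hdk : d ^ res.length < p ^ k)
    {Γ : Type} [Group Γ] [Finite Γ] {σ : Γ →* G7} (hσ : Cfsg.IsStemExtension σ) :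
    ¬ p ^ k ∣ Nat.card σ.ker := by
  have hR := real_of (injective hD hK htab) (g := fun i => wordO (ws.getD i []))
    (fun i hi y => otab_apply hD (hws i (hlen ▸ hi)) y) hreal
  exact not_pow_dvd_ker hdk (fun Γ' _ _ σ' hc' hs' he' P => boundedMany (O := vecOps m') hm hd hp hc' hs'
    (fun z hz => hk ▸ he' z hz) (fun K _ hK τ => ⟨_, vecOps_valid hK τ⟩) hC hR hN hpp P) σ hσ.2.1 hσ.1 hσ.2.2

omit hD hK htab in
theorem card_G7 : Nat.card G7 = 4585351680 := by
  have h := S0292.result (F := ZMod 3) (q := 3) (by simp [ZMod.card]) ⟨1, rfl⟩ 3 (le_refl 3)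
  rw [← oddQ_eq, ← Nat.card_congr toPOmega.toEquiv] at h
  simp [Finset.prod_range_succ] at h
  omega

omit hD hK htab in
theorem card_ker_dvd (h2 : ∀ {Γ : Type} [Group Γ] [Finite Γ] {σ : Γ →* G7}, Cfsg.IsStemExtension σ →
      ¬ 2 ^ 2 ∣ Nat.card σ.ker)
    (h3 : ∀ {Γ : Type} [Group Γ] [Finite Γ] {σ : Γ →* G7}, Cfsg.IsStemExtension σ → ¬ 3 ^ 2 ∣ Nat.card σ.ker)
    {Γ : Type} [Group Γ] [Finite Γ] (σ : Γ →* G7) (hσ : Cfsg.IsStemExtension σ) : Nat.card σ.ker ∣ 6 := by
  refine dvd_of_primes Nat.card_pos.ne' (by norm_num) fun p hp => ?_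
  by_cases e2 : p = 2
  · subst e2
    rw [show (6 : ℕ) = 2 ^ 1 * 3 by norm_num, factorization_split Nat.prime_two (by norm_num)]
    exact h2 hσ
  by_cases e3 : p = 3
  · subst e3
    rw [show (6 : ℕ) = 3 ^ 1 * 2 by norm_num, factorization_split Nat.prime_three (by norm_num)]
    exact h3 hσ
  have hnd : ¬ p ∣ 6 := fun hd => by
    have : p ≤ 6 := Nat.le_of_dvd (by norm_num) hd
    interval_cases p <;> revert hp hd e2 e3 <;> norm_num
  rw [Nat.factorization_eq_zero_of_not_dvd hnd, Nat.zero_add, pow_one]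
  refine not_dvd_of_sq hp (fun hd => ?_) hσ
  rw [card_G7, show (4585351680 : ℕ) = 2 ^ 9 * (3 ^ 9 * 455) by norm_num] at hd
  have c2 : Nat.Coprime (p ^ 2) (2 ^ 9) := ((Nat.coprime_primes hp Nat.prime_two).2 e2).pow _ _
  have c3 : Nat.Coprime (p ^ 2) (3 ^ 9) := ((Nat.coprime_primes hp Nat.prime_three).2 e3).pow _ _
  have h455 : p ^ 2 ∣ 455 := c3.dvd_of_dvd_mul_left (c2.dvd_of_dvd_mul_left hd)
  have : p < 22 := by nlinarith [Nat.le_of_dvd (by norm_num : 0 < 455) h455]
  interval_cases p <;> revert hp h455 e2 e3 <;> norm_num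

omit hD hK htab in
/-- The multiplier from the triple cover and the bound. -/
theorem assemble (htriple : ∃ (E : Type) (_ : Group E) (_ : Finite E) (θ : E →* G7),
      Cfsg.IsStemExtension θ ∧ Nonempty (θ.ker ≃* Multiplicative (ZMod 3)))
    (hbound : ∀ {Γ : Type} [Group Γ] [Finite Γ] (σ : Γ →* G7), Cfsg.IsStemExtension σ → Nat.card σ.ker ∣ 6) :
    ∃ (E : Type) (_ : Group E) (_ : Finite E) (θ : E →* G7),
      Cfsg.IsStemExtension θ ∧ Nonempty (θ.ker ≃* Multiplicative (ZMod 6)) := by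
  obtain ⟨E, iE, iF, π, hperf, hc, hr, z, hz, hz1, hz2⟩ :=
    exists_spin (F := ZMod 3) (m := 3) (le_refl 3) two_ne (by simp [ZMod.card])
  let σ : E →* G7 := π.codRestrict _ fun x => hr.le ⟨x, rfl⟩
  have hk : σ.ker = π.ker := MonoidHom.ker_codRestrict _ _ _
  have hσ : Cfsg.IsStemExtension σ := ⟨fun y => by
    obtain ⟨x, hx⟩ := hr.ge y.2
    exact ⟨x, Subtype.ext hx⟩, hk ▸ hc, by rw [hperf]; exact le_top⟩
  haveI := Fact.mk Nat.prime_two
  let zk : σ.ker := ⟨z, hk ▸ (MonoidHom.mem_ker.2 hz)⟩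
  have hord : orderOf zk = 2 := orderOf_eq_prime (Subtype.ext (by rw [pow_two]; exact hz2))
    fun e => hz1 (congrArg Subtype.val e)
  have h2 : 2 ∣ Nat.card σ.ker := hord ▸ orderOf_dvd_natCard zk
  have hmc : IsMulCommutative σ.ker := ⟨⟨fun a b => Subtype.ext (Subgroup.mem_center_iff.1 (hσ.2.1 b.2) a)⟩⟩
  obtain ⟨Y, _, _, τ, hτ, ⟨eY⟩⟩ := htriple
  have h6 : Nat.card σ.ker = 2 ∨ Nat.card σ.ker = 6 := by
    have := Nat.le_of_dvd (by norm_num) (hbound σ hσ)
    have h0 := hbound σ hσ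
    interval_cases h : Nat.card σ.ker <;> revert h0 h2 <;> norm_num
  rcases h6 with h | h
  · haveI : IsCyclic σ.ker := isCyclic_of_prime_card (p := 2) h
    obtain ⟨X, i1, i2, θ, hθ, ⟨e⟩⟩ := exists_prod perfect
      (A := Multiplicative (ZMod 2)) (B := Multiplicative (ZMod 3)) (by simp; decide) hσ
      ((h ▸ zmodCyclicMulEquiv (G := σ.ker) inferInstance).symm) hτ eY
    exact ⟨X, i1, i2, θ, hθ, ⟨e.trans ((MulEquiv.prodMultiplicative (ZMod 2) (ZMod 3)).symm.trans
      (AddEquiv.toMultiplicative (ZMod.chineseRemainder (show Nat.Coprime 2 3 by norm_num)).symm.toAddEquiv))⟩⟩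
  · haveI : IsCyclic σ.ker := by
      letI : CommGroup σ.ker := { (inferInstance : Group σ.ker) with mul_comm := hmc.is_comm.comm }
      refine IsCyclic.of_exponent_eq_card ?_
      have he := Group.exponent_dvd_nat_card (G := σ.ker)
      rw [h] at he ⊢
      obtain ⟨x, hx⟩ := exists_prime_orderOf_dvd_card' (G := σ.ker) 3 (h ▸ by norm_num)
      have h23 : 6 ∣ Monoid.exponent σ.ker := Nat.Coprime.mul_dvd_of_dvd_of_dvd (show Nat.Coprime 2 3 by norm_num)
        (by rw [← hord]; exact Monoid.order_dvd_exponent zk) (by have := Monoid.order_dvd_exponent x; rwa [hx] at this)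
      exact Nat.dvd_antisymm he h23
    exact ⟨E, iE, iF, σ, hσ, ⟨(h ▸ zmodCyclicMulEquiv (G := σ.ker) inferInstance).symm⟩⟩

omit hD hK htab in
/-- The statement from the two halves. -/
theorem main_of (hcover : ∃ (E : Type) (_ : Group E) (_ : Finite E) (θ : E →* G7),
      Cfsg.IsStemExtension θ ∧ Nonempty (θ.ker ≃* Multiplicative (ZMod 6)))
    (hbound : ∀ {Γ : Type} [Group Γ] [Finite Γ] (σ : Γ →* G7), Cfsg.IsStemExtension σ → Nat.card σ.ker ∣ 6)
    {F : Type u} [Field F] [Fintype F] (hF : Fintype.card F = 3) :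
    Cfsg.HasCyclicSchurMultiplier (Cfsg.POmega F (Cfsg.quadFormOdd 3 F)) 6 := by
  let e : ZMod 3 ≃+* F := ZMod.ringEquivOfPrime F Nat.prime_three hF
  let E := Forms.SmallPerm.isoCongr e (Q := ⇑Q7) (Q' := Cfsg.quadFormOdd 3 F) fun v => by
    rw [oddQ_eq]
    simp [Cfsg.quadFormOdd]
  have hmap : (Cfsg.Omega (ZMod 3) ⇑Q7).map E.toMonoidHom = Cfsg.Omega F (Cfsg.quadFormOdd 3 F) := by
    show (commutator (Cfsg.isometryGroup (ZMod 3) ⇑Q7)).map E.toMonoidHom = commutator _
    rw [map_commutator_eq, MonoidHom.range_eq_top.2 E.surjective]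
    rfl
  let EΩ : G7 ≃* Cfsg.Omega F (Cfsg.quadFormOdd 3 F) := (E.subgroupMap _).trans (MulEquiv.subgroupCongr hmap)
  have hc : Subgroup.center (Cfsg.Omega F (Cfsg.quadFormOdd 3 F)) = ⊥ := by
    rw [eq_bot_iff]
    intro z hz
    have h : EΩ.symm z ∈ Subgroup.center G7 := Subgroup.mem_center_iff.2 fun g => EΩ.injective (by
      rw [map_mul, map_mul, EΩ.apply_symm_apply]; exact Subgroup.mem_center_iff.1 hz _)
    rw [center_bot, Subgroup.mem_bot] at h
    rw [Subgroup.mem_bot]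
    exact EΩ.symm.injective (h.trans (map_one _).symm)
  refine hasSchur_of_model (((QuotientGroup.quotientMulEquivOfEq hc).trans QuotientGroup.quotientBot).trans EΩ.symm)
    perfect hcover fun Δ _ _ τ hτ => ?_
  refine (Nat.le_of_dvd (by norm_num) (hbound τ hτ)).trans (le_of_eq ?_)
  simp

end Cfsg.Agent.MonomialMult.Orth
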