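import Cfsg.Agent.Lib.Classical.OrthForms

/-!
Vectors of the seven-dimensional orthogonal space over the field with three elements as numbers: the form, the
polar form and reflections computed on the digits.
-/

set_option autoImplicit false
set_option linter.unusedSectionVars false

namespace Cfsg.Agent.MonomialMult.Orth

open Cfsg.Agent.Forms Cfsg.Agent.Forms.QuadStd Cfsg.Agent.Forms.Reflections Cfsg.Agent.Classical.OrthForms

local instance : Fact (Nat.Prime 3) := ⟨Nat.prime_three⟩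

/-- The index set. -/
abbrev Ix := Unit ⊕ (Fin 3 ⊕ Fin 3)

/-- The form. -/
noncomputable abbrev Q7 : QuadraticForm (ZMod 3) (Ix → ZMod 3) := oddQ (ZMod 3) 3

/-- A digit. -/
def dg (v k : ℕ) : ℕ := v / 3 ^ k % 3

/-- The digit belonging to an index. -/
def posI : Ix → ℕ
  | Sum.inl _ => 0
  | Sum.inr (Sum.inl i) => 1 + i.1
  | Sum.inr (Sum.inr i) => 4 + i.1

/-- The vector of a code. -/
def vecO (v : ℕ) : Ix → ZMod 3 := fun i => (dg v (posI i) : ZMod 3)

/-- The code with given digits. -/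
def packO (f : ℕ → ℕ) : ℕ :=
  f 0 % 3 + 3 * (f 1 % 3 + 3 * (f 2 % 3 + 3 * (f 3 % 3 + 3 * (f 4 % 3 + 3 * (f 5 % 3 + 3 * (f 6 % 3))))))

theorem dg_packO (f : ℕ → ℕ) {k : ℕ} (hk : k < 7) : dg (packO f) k = f k % 3 := by
  unfold dg packO
  interval_cases k <;> omega

theorem packO_lt (f : ℕ → ℕ) : packO f < 2187 := by unfold packO; omega

theorem posI_lt (i : Ix) : posI i < 7 := by
  rcases i with _ | i | i <;> simp only [posI] <;> omega

theorem vecO_packO (f : ℕ → ℕ) : vecO (packO f) = fun i => (f (posI i) : ZMod 3) := funext fun i => by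
  rw [vecO, dg_packO f (posI_lt i), ZMod.natCast_mod]

theorem packO_dg {v : ℕ} (hv : v < 2187) : packO (dg v) = v := by
  unfold packO dg
  omega

/-- The index of a digit. -/
def ixO : ℕ → Ix
  | 0 => Sum.inl ()
  | 1 => Sum.inr (Sum.inl 0)
  | 2 => Sum.inr (Sum.inl 1)
  | 3 => Sum.inr (Sum.inl 2)
  | 4 => Sum.inr (Sum.inr 0)
  | 5 => Sum.inr (Sum.inr 1)
  | _ => Sum.inr (Sum.inr 2)

/-- The code of a vector. -/
def encO (x : Ix → ZMod 3) : ℕ := packO fun k => (x (ixO k)).val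

theorem encO_lt (x : Ix → ZMod 3) : encO x < 2187 := packO_lt _

theorem ixO_posI (i : Ix) : ixO (posI i) = i := by
  rcases i with ⟨⟩ | i | i
  · rfl
  · fin_cases i <;> rfl
  · fin_cases i <;> rfl

theorem posI_ixO {k : ℕ} (hk : k < 7) : posI (ixO k) = k := by
  interval_cases k <;> rfl

theorem vecO_encO (x : Ix → ZMod 3) : vecO (encO x) = x := by
  rw [encO, vecO_packO]
  funext i
  rw [ixO_posI, ZMod.natCast_zmod_val]

theorem encO_vecO {v : ℕ} (hv : v < 2187) : encO (vecO v) = v := by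
  have e : ∀ k < 7, (vecO v (ixO k)).val = dg v k := fun k hk => by
    rw [vecO, posI_ixO hk, ZMod.val_natCast, dg, Nat.mod_mod]
  rw [encO]
  conv_rhs => rw [← packO_dg hv]
  simp only [packO]
  rw [e 0 (by norm_num), e 1 (by norm_num), e 2 (by norm_num), e 3 (by norm_num), e 4 (by norm_num),
    e 5 (by norm_num), e 6 (by norm_num)]

/-- The negative of a code. -/
def negO (v : ℕ) : ℕ := packO fun k => 2 * dg v k

theorem two_eq : (2 : ZMod 3) = -1 := by decide

theorem vecO_negO (v : ℕ) : vecO (negO v) = -vecO v := by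
  rw [negO, vecO_packO]
  funext i
  rw [Pi.neg_apply, vecO]
  push_cast
  rw [two_eq, neg_one_mul]

/-- The form on codes. -/
def qO (v : ℕ) : ℕ := (dg v 0 * dg v 0 + (dg v 1 * dg v 4 + dg v 2 * dg v 5 + dg v 3 * dg v 6)) % 3

/-- The polar form on codes. -/
def bO (u v : ℕ) : ℕ :=
  (2 * dg u 0 * dg v 0 + (dg u 1 * dg v 4 + dg u 2 * dg v 5 + dg u 3 * dg v 6 +
    (dg v 1 * dg u 4 + dg v 2 * dg u 5 + dg v 3 * dg u 6))) % 3

theorem qO_spec (v : ℕ) : Q7 (vecO v) = (qO v : ZMod 3) := by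
  rw [qO, ZMod.natCast_mod]
  show oddQ (ZMod 3) 3 _ = _
  rw [oddQ_apply, PlusStd.plusQ_apply, Cfsg.quadFormPlus, Fin.sum_univ_three]
  simp only [vecO, posI, Function.comp_apply, Fin.val_zero, Fin.val_one, Fin.val_two]
  push_cast
  ring

theorem bO_spec (u v : ℕ) : QuadraticMap.polar Q7 (vecO u) (vecO v) = (bO u v : ZMod 3) := by
  rw [bO, ZMod.natCast_mod, QuadraticMap.polar]
  show oddQ (ZMod 3) 3 _ - oddQ (ZMod 3) 3 _ - oddQ (ZMod 3) 3 _ = _
  rw [oddQ_apply, oddQ_apply, oddQ_apply, PlusStd.plusQ_apply, PlusStd.plusQ_apply, PlusStd.plusQ_apply,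
    Cfsg.quadFormPlus, Cfsg.quadFormPlus, Cfsg.quadFormPlus, Fin.sum_univ_three, Fin.sum_univ_three,
    Fin.sum_univ_three]
  simp only [vecO, posI, Pi.add_apply, Function.comp_apply, Fin.val_zero, Fin.val_one, Fin.val_two]
  push_cast
  ring

/-- The reflection on codes. -/
def refO (a x : ℕ) : ℕ := packO fun k => dg x k + 2 * (qO a * bO a x) * dg a k

theorem refO_lt (a x : ℕ) : refO a x < 2187 := packO_lt _

theorem inv_eq_self : ∀ z : ZMod 3, z⁻¹ = z := fun z => by
  fin_cases z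
  · exact inv_zero
  · exact inv_one
  · refine inv_eq_of_mul_eq_one_right ?_
    decide

theorem vecO_refO (a x : ℕ) : vecO (refO a x) = act (reflect Q7 (vecO a)) (vecO x) := by
  rw [act_reflect, qO_spec, bO_spec, inv_eq_self, refO, vecO_packO]
  funext i
  simp only [Pi.sub_apply, Pi.smul_apply, smul_eq_mul, vecO]
  push_cast
  rw [two_eq]
  ring

end Cfsg.Agent.MonomialMult.Orth
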