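import Cfsg.Agent.Lib.MonomialMult.Orth.Codes
import Cfsg.Agent.Lib.MonomialMult.Checks
import Cfsg.Agent.Lib.Forms.Spinor
import Cfsg.Agent.Lib.Classical.OmegaCrit
import Cfsg.Agent.Lib.Classical.OrthSimple
import Cfsg.Agent.Lib.OrthMult.OddMain

/-!
The seven-dimensional orthogonal group over the field with three elements on the points with value one, and
generation by products of two reflections from a closure tree.
-/

set_option autoImplicit false
set_option linter.unusedSectionVars false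

namespace Cfsg.Agent.MonomialMult.Orth

open Cfsg.Agent.Forms Cfsg.Agent.Forms.QuadStd Cfsg.Agent.Forms.Reflections Cfsg.Agent.Classical.OrthForms
  Cfsg.Agent.Classical.OmegaCrit

local instance : Fact (Nat.Prime 3) := ⟨Nat.prime_three⟩

theorem two_ne : (2 : ZMod 3) ≠ 0 := by decide

theorem card_three : Fintype.card (ZMod 3) ≠ 2 ∨ Fintype.card Ix ≠ 4 := Or.inl (by simp [ZMod.card])

theorem nondeg : (QuadraticMap.polarBilin Q7).Nondegenerate := oddQ_nondeg two_ne 3

/-- The group. -/
abbrev G7 : Type := ↥(Cfsg.Omega (ZMod 3) ⇑Q7)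

theorem center_bot : Subgroup.center G7 = ⊥ :=
  Subgroup.card_eq_one.1 (OrthMult.card_center_omega (le_refl 3) two_ne)

theorem perfect : commutator G7 = ⊤ :=
  Classical.Orth.commutator_omega_eq_top nondeg (oddFrame (ZMod 3) (by omega)) (by simp)

/-- The group is its projective quotient. -/
noncomputable def toPOmega : G7 ≃* Cfsg.POmega (ZMod 3) ⇑Q7 :=
  ((QuotientGroup.quotientMulEquivOfEq center_bot).trans QuotientGroup.quotientBot).symm

theorem simple : IsSimpleGroup G7 := by
  haveI := Classical.Orth.isSimpleGroup_POmega nondeg (oddFrame (ZMod 3) (by omega)) (by simp)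
  haveI : Nontrivial G7 := toPOmega.toEquiv.nontrivial
  exact IsSimpleGroup.isSimpleGroup_of_surjective toPOmega.symm.toMonoidHom toPOmega.symm.surjective

/-- The points with their index table. -/
structure OPts where
  pt : ℕ → ℕ
  idx : ℕ → ℕ

/-- The tables are right. -/
def optsB (D : OPts) : Bool :=
  below (fun v => !(qO v == 1) || (decide (D.idx v < 378) && (D.pt (D.idx v) == v || D.pt (D.idx v) == negO v))) 2187 &&
  below (fun y => decide (D.pt y < 2187) && qO (D.pt y) == 1 && D.idx (D.pt y) == y && D.idx (negO (D.pt y)) == y) 378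

variable {D : OPts} (hD : optsB D = true)

/-- The index of a vector. -/
def idV (D : OPts) (x : Ix → ZMod 3) : ℕ := D.idx (encO x)

theorem qO_lt (v : ℕ) : qO v < 3 := Nat.mod_lt _ (by norm_num)

theorem qO_one {v : ℕ} (h : Q7 (vecO v) = 1) : qO v = 1 := by
  have h1 := qO_spec v
  rw [h] at h1
  have h2 := congrArg ZMod.val h1.symm
  rwa [ZMod.val_natCast, Nat.mod_eq_of_lt (qO_lt v), ZMod.val_one] at h2

include hD

theorem pt_spec (y : Fin 378) : D.pt y < 2187 ∧ Q7 (vecO (D.pt y)) = 1 ∧ idV D (vecO (D.pt y)) = y ∧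
    idV D (-vecO (D.pt y)) = y := by
  have h := hD
  simp only [optsB, Bool.and_eq_true] at h
  have h' := below_spec h.2 y y.2
  simp only [Bool.and_eq_true, decide_eq_true_eq, beq_iff_eq] at h'
  obtain ⟨⟨⟨h1, h2⟩, h3⟩, h4⟩ := h'
  refine ⟨h1, by rw [qO_spec, h2, Nat.cast_one], by rw [idV, encO_vecO h1, h3], ?_⟩
  rw [idV, ← vecO_negO, encO_vecO (show negO (D.pt y) < 2187 from packO_lt _), h4]

theorem idV_spec {x : Ix → ZMod 3} (hx : Q7 x = 1) :
    ∃ y : Fin 378, idV D x = y ∧ (x = vecO (D.pt y) ∨ x = -vecO (D.pt y)) := by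
  have h := hD
  simp only [optsB, Bool.and_eq_true] at h
  have h' := below_spec h.1 (encO x) (encO_lt x)
  have h1 : qO (encO x) = 1 := qO_one (by rw [vecO_encO, hx])
  simp only [h1, beq_self_eq_true, Bool.not_true, Bool.false_or, Bool.and_eq_true, decide_eq_true_eq,
    Bool.or_eq_true, beq_iff_eq] at h'
  obtain ⟨h2, h3⟩ := h'
  refine ⟨⟨_, h2⟩, rfl, ?_⟩
  rcases h3 with h3 | h3
  · left; rw [h3, vecO_encO]
  · right; rw [h3, vecO_negO, vecO_encO, neg_neg]

theorem idV_sign {y : Fin 378} {x : Ix → ZMod 3} (h : x = vecO (D.pt y) ∨ x = -vecO (D.pt y)) :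
    idV D x = y ∧ idV D (-x) = y := by
  obtain ⟨-, -, h3, h4⟩ := pt_spec hD y
  rcases h with rfl | rfl
  · exact ⟨h3, h4⟩
  · exact ⟨h4, by rw [neg_neg]; exact h3⟩

/-- The image of a point. -/
noncomputable def moveO (g : Cfsg.isometryGroup (ZMod 3) ⇑Q7) (y : Fin 378) : Fin 378 :=
  ⟨idV D (act g (vecO (D.pt y))), by
    obtain ⟨z, hz, -⟩ := idV_spec hD (x := act g (vecO (D.pt y))) (by rw [act_map]; exact (pt_spec hD y).2.1)
    rw [hz]; exact z.2⟩

theorem moveO_val (g : Cfsg.isometryGroup (ZMod 3) ⇑Q7) (y : Fin 378) :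
    ((moveO hD g y : Fin 378) : ℕ) = idV D (act g (vecO (D.pt y))) := rfl

theorem moveO_vec (g : Cfsg.isometryGroup (ZMod 3) ⇑Q7) (y : Fin 378) :
    act g (vecO (D.pt y)) = vecO (D.pt (moveO hD g y)) ∨ act g (vecO (D.pt y)) = -vecO (D.pt (moveO hD g y)) := by
  obtain ⟨z, hz, h⟩ := idV_spec hD (x := act g (vecO (D.pt y))) (by rw [act_map]; exact (pt_spec hD y).2.1)
  rwa [show moveO hD g y = z from Fin.ext hz]

theorem moveO_one (y : Fin 378) : moveO hD (1 : Cfsg.isometryGroup (ZMod 3) ⇑Q7) y = y :=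
  Fin.ext (by rw [moveO_val, act_one]; exact (pt_spec hD y).2.2.1)

theorem moveO_mul (g h : Cfsg.isometryGroup (ZMod 3) ⇑Q7) (y : Fin 378) :
    moveO hD (g * h) y = moveO hD g (moveO hD h y) := by
  refine Fin.ext ?_
  rw [moveO_val, moveO_val, act_mul]
  obtain ⟨z, hz, hs⟩ := idV_spec hD (x := act g (vecO (D.pt (moveO hD h y))))
    (by rw [act_map]; exact (pt_spec hD _).2.1)
  rcases moveO_vec hD h y with e | e
  · rw [e]
  · rw [e, map_neg, (idV_sign hD hs).2, hz]

/-- The action. -/
noncomputable def isoPerm : Cfsg.isometryGroup (ZMod 3) ⇑Q7 →* Equiv.Perm (Fin 378) where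
  toFun g :=
    { toFun := moveO hD g
      invFun := moveO hD g⁻¹
      left_inv := fun y => by rw [← moveO_mul hD, inv_mul_cancel, moveO_one hD]
      right_inv := fun y => by rw [← moveO_mul hD, mul_inv_cancel, moveO_one hD] }
  map_one' := Equiv.ext (moveO_one hD)
  map_mul' g h := Equiv.ext (moveO_mul hD g h)

/-- The action of the group. -/
noncomputable def permO : G7 →* Equiv.Perm (Fin 378) := (isoPerm hD).comp (Cfsg.Omega (ZMod 3) ⇑Q7).subtype

omit hD in
/-- A word of reflections lying in the group. -/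
def wordOK (w : List ℕ) : Bool :=
  w.all (fun a => !(qO a == 0)) && w.length % 2 == 0 && w.foldr (fun a r => qO a * r % 3) 1 == 1

omit hD in
/-- The isometry of a word. -/
noncomputable def wordI (w : List ℕ) : Cfsg.isometryGroup (ZMod 3) ⇑Q7 := (w.map fun a => reflect Q7 (vecO a)).prod

omit hD in
theorem qO_ne {a : ℕ} (h : qO a ≠ 0) : Q7 (vecO a) ≠ 0 := fun e => h (by
  rw [qO_spec] at e
  have := congrArg ZMod.val e
  rwa [ZMod.val_natCast, Nat.mod_eq_of_lt (qO_lt a), ZMod.val_zero] at this)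

omit hD in
theorem wordI_mem {w : List ℕ} (h : wordOK w = true) : wordI w ∈ Cfsg.Omega (ZMod 3) ⇑Q7 := by
  simp only [wordOK, Bool.and_eq_true, List.all_eq_true, Bool.not_eq_true', beq_eq_false_iff_ne, beq_iff_eq] at h
  obtain ⟨⟨h1, h2⟩, h3⟩ := h
  rw [mem_omega_iff nondeg card_three]
  have e : wordI w = ((w.map vecO).map (reflect Q7)).prod := by rw [wordI, List.map_map]; rfl
  rw [e, theta_list nondeg card_three _ fun v hv => by
    obtain ⟨a, ha, rfl⟩ := List.mem_map.1 hv
    exact qO_ne (h1 a ha)]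
  have hp : ∀ l : List ℕ, ((l.map vecO).map fun v => Q7 v).prod = ((l.foldr (fun a r => qO a * r % 3) 1 : ℕ) : ZMod 3) := by
    intro l
    induction l with
    | nil => simp
    | cons a l ih =>
      rw [List.map_cons, List.map_cons, List.prod_cons, ih, qO_spec, List.foldr_cons, ZMod.natCast_mod,
        Nat.cast_mul]
  rw [hp, h3, Nat.cast_one, chi_one, List.length_map, (Nat.even_iff.2 h2).neg_one_pow]
  rfl

omit hD in
/-- The element of a word. -/
noncomputable def wordO (w : List ℕ) : G7 := if h : wordOK w = true then ⟨wordI w, wordI_mem h⟩ else 1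

omit hD in
theorem wordO_coe {w : List ℕ} (h : wordOK w = true) : ((wordO w : G7) : Cfsg.isometryGroup (ZMod 3) ⇑Q7) = wordI w := by
  rw [wordO, dif_pos h]

omit hD in
theorem act_wordI : ∀ (w : List ℕ) (x : ℕ), act (wordI w) (vecO x) = vecO (w.foldr refO x)
  | [], x => by rw [wordI, List.map_nil, List.prod_nil, act_one]; rfl
  | a :: w, x => by
    rw [wordI, List.map_cons, List.prod_cons, act_mul, ← wordI, act_wordI w x, List.foldr_cons, vecO_refO]

/-- A table of a word. -/
def otabB (D : OPts) (w : List ℕ) (P : ℕ → ℕ) : Bool :=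
  wordOK w && below (fun y => D.idx (w.foldr refO (D.pt y)) == P y) 378

theorem otab_apply {w : List ℕ} {P : ℕ → ℕ} (h : otabB D w P = true) (y : Fin 378) :
    ((permO hD (wordO w) y : Fin 378) : ℕ) = P y := by
  simp only [otabB, Bool.and_eq_true] at h
  have hb : D.idx (w.foldr refO (D.pt y)) = P y := beq_iff_eq.1 (below_spec h.2 y y.2)
  show idV D (act ((wordO w : G7) : Cfsg.isometryGroup (ZMod 3) ⇑Q7) (vecO (D.pt y))) = _
  rw [wordO_coe h.1, act_wordI, idV, encO_vecO ?_, hb]
  rcases w with _ | ⟨a, w⟩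
  · exact (pt_spec hD y).1
  · exact refO_lt _ _

omit hD in
/-- The closure tree. -/
def closB (D : OPts) (s : ℕ) (ord pos a b : ℕ → ℕ) : Bool :=
  below (fun y => decide (pos y < 378) && ord (pos y) == y) 378 &&
  below (fun k => decide (ord k < 378) && (decide (k < s) ||
    (decide (a k < k) && decide (b k < k) && D.idx (refO (D.pt (ord (a k))) (D.pt (ord (b k)))) == ord k))) 378

/-- The products of two reflections in points. -/
theorem gen_top {s : ℕ} {ord pos a b : ℕ → ℕ} (h : closB D s ord pos a b = true) (h0 : ord 0 = 0) (K : Subgroup G7)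
    (hK : ∀ k < s, wordO [D.pt (ord k), D.pt (ord 0)] ∈ K) (hne : ∃ y y' : Fin 378, ∃ z,
      permO hD (wordO [D.pt y, D.pt y']) z ≠ z) : K = ⊤ := by
  haveI := simple
  simp only [closB, Bool.and_eq_true] at h
  obtain ⟨hpos, hstep⟩ := h
  let R : ℕ → Cfsg.isometryGroup (ZMod 3) ⇑Q7 := fun y => reflect Q7 (vecO (D.pt y))
  have hok : ∀ y y' : Fin 378, wordOK [D.pt y, D.pt y'] = true := fun y y' => by
    have e : ∀ z : Fin 378, qO (D.pt z) = 1 := fun z => qO_one (pt_spec hD z).2.1
    simp [wordOK, e]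
  have hcoe : ∀ y y' : Fin 378, ((wordO [D.pt y, D.pt y'] : G7) : Cfsg.isometryGroup (ZMod 3) ⇑Q7) = R y * R y' :=
    fun y y' => by rw [wordO_coe (hok y y'), wordI]; simp [R]
  have hRsq : ∀ y, R y * R y = 1 := fun y => reflect_sq _
  have hRinv : ∀ y, (R y)⁻¹ = R y := fun y => inv_eq_of_mul_eq_one_right (hRsq y)
  have hconj : ∀ g (y : Fin 378), g * R y * g⁻¹ = R (moveO hD g y) := fun g y => by
    rw [show R y = reflect Q7 (vecO (D.pt y)) from rfl, Spinor.reflect_conj]
    rcases moveO_vec hD g y with e | e <;> rw [e]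
    rw [← neg_one_smul (ZMod 3), Spinor.reflect_smul _ (neg_ne_zero.2 one_ne_zero)]
  let L := K.map (Cfsg.Omega (ZMod 3) ⇑Q7).subtype
  have hlt : ∀ k < 378, ord k < 378 := fun k hk => by
    have := below_spec hstep k hk
    simp only [Bool.and_eq_true, decide_eq_true_eq] at this
    exact this.1
  have hall : ∀ k < 378, R (ord k) * R 0 ∈ L := by
    intro k
    induction k using Nat.strong_induction_on with
    | _ k ih =>
      intro hk
      by_cases hks : k < s
      · refine ⟨_, hK k hks, ?_⟩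
        show ((wordO _ : G7) : Cfsg.isometryGroup (ZMod 3) ⇑Q7) = _
        rw [h0, hcoe ⟨_, hlt k hk⟩ ⟨0, by norm_num⟩]
      · have := below_spec hstep k hk
        simp only [Bool.and_eq_true, decide_eq_true_eq, Bool.or_eq_true, beq_iff_eq, hks, false_or] at this
        obtain ⟨-, ⟨ha, hb⟩, he⟩ := this
        have hla := hlt _ (lt_trans ha hk)
        have hlb := hlt _ (lt_trans hb hk)
        have hz : moveO hD (R (ord (a k))) ⟨_, hlb⟩ = ⟨_, hlt k hk⟩ := Fin.ext (by
          rw [moveO_val]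
          show idV D (act (reflect Q7 (vecO (D.pt (ord (a k))))) (vecO (D.pt (ord (b k))))) = ord k
          rw [← vecO_refO, idV, encO_vecO (refO_lt _ _), he])
        have e := hconj (R (ord (a k))) ⟨_, hlb⟩
        rw [hz] at e
        have e' : R (ord k) * R 0 =
            R (ord (a k)) * R 0 * (R (ord (b k)) * R 0)⁻¹ * (R (ord (a k)) * R 0) := by
          rw [← e]
          simp only [mul_inv_rev, hRinv, mul_assoc]
          rw [← mul_assoc (R 0) (R 0), hRsq, one_mul]
        rw [e']
        exact mul_mem (mul_mem (ih _ ha (lt_trans ha hk)) (inv_mem (ih _ hb (lt_trans hb hk))))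
          (ih _ ha (lt_trans ha hk))
  have hpair : ∀ y y' : Fin 378, wordO [D.pt y, D.pt y'] ∈ K := by
    have hy : ∀ y : Fin 378, R y * R 0 ∈ L := fun y => by
      have := below_spec hpos y y.2
      simp only [Bool.and_eq_true, decide_eq_true_eq, beq_iff_eq] at this
      have hh := hall _ this.1
      rwa [this.2] at hh
    intro y y'
    have hL : R y * R y' ∈ L := by
      have := mul_mem (hy y) (inv_mem (hy y'))
      rw [mul_inv_rev, hRinv, hRinv, mul_assoc, ← mul_assoc (R 0) (R 0), hRsq, one_mul] at this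
      exact this
    obtain ⟨x, hx, e⟩ := hL
    rwa [show wordO [D.pt y, D.pt y'] = x from Subtype.ext ((hcoe y y').trans e.symm)]
  let S : Set G7 := {x | ∃ y y' : Fin 378, (x : Cfsg.isometryGroup (ZMod 3) ⇑Q7) = R y * R y'}
  have hSK : Subgroup.closure S ≤ K := (Subgroup.closure_le K).2 fun x ⟨y, y', e⟩ => by
    rw [show x = wordO [D.pt y, D.pt y'] from Subtype.ext (e.trans (hcoe y y').symm)]
    exact hpair y y'
  haveI hN : (Subgroup.closure S).Normal := ⟨fun x hx g => by
    have hmap : (Subgroup.closure S).map (MulAut.conj g).toMonoidHom ≤ Subgroup.closure S := by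
      rw [MonoidHom.map_closure, Subgroup.closure_le]
      rintro _ ⟨z, ⟨y, y', e⟩, rfl⟩
      refine Subgroup.subset_closure ⟨moveO hD g.1 y, moveO hD g.1 y', ?_⟩
      show g.1 * z.1 * g.1⁻¹ = _
      rw [e, ← hconj, ← hconj]
      group
    exact hmap ⟨x, hx, rfl⟩⟩
  rcases hN.eq_bot_or_eq_top with e | e
  · exfalso
    obtain ⟨y, y', z, hz⟩ := hne
    refine hz ?_
    have : wordO [D.pt y, D.pt y'] ∈ (⊥ : Subgroup G7) := e ▸ Subgroup.subset_closure ⟨y, y', hcoe y y'⟩
    rw [Subgroup.mem_bot.1 this, map_one]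
    rfl
  · exact eq_top_iff.2 (e ▸ hSK)

theorem permO_injective {w : List ℕ} {P : ℕ → ℕ} (h : otabB D w P = true) (y : Fin 378) (hy : P y ≠ y) :
    Function.Injective (permO hD) := by
  haveI := simple
  rcases IsSimpleGroup.eq_bot_or_eq_top_of_normal (permO hD).ker inferInstance with e | e
  · exact (MonoidHom.ker_eq_bot_iff _).1 e
  · exfalso
    refine hy ?_
    rw [← otab_apply hD h y, MonoidHom.mem_ker.1 (e ▸ Subgroup.mem_top (wordO w))]
    rfl

end Cfsg.Agent.MonomialMult.Orth
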